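import Groth.Agent.AgPol.K117.Nodes
import Groth.Agent.GIT.K688.AbTorsFin
import Groth.Agent.Etcore.AbTors
import Groth.Agent.AbVar.K511.AmpleVan
import Groth.Agent.AbVar.K512.AV
import Groth.Agent.AbSch.K449.AmpAb
import Groth.Agent.CurvesB.HZero
import Groth.Agent.CurvesC.DegZeroSec512
import Groth.Agent.CohqB.DevGeom
import Groth.Agent.Divis.NormAmple
import Groth.Agent.Ega1.AmpFam
import Groth.Agent.Ega1.GlobGenPt
import Groth.Agent.Ega2.AmpleAff
import Groth.Agent.Ega2.AmpleUnit
import Groth.Agent.Ega2.FiniteSet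
import Groth.Agent.Flat2H.FamOpen
import Groth.Agent.S14124
import Groth.Agent.S7858

/-!
# Sections of the cube of an ample module on an abelian variety do not vanish at all torsion points

* `exists_sec`: sections of a globally generated ample module vanishing at a rational point cut out a finite set.
* `card_le`: `A` an abelian variety of dimension `g + 1` over an algebraically closed field, `M` ample and globally
  generated, `t` a nonzero section of an invertible module `T`: at most `N^(2g) (T · M^g)` points of `A` killed by `N`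
  are zeros of `t` (the argument of `K688.AbTors.card_le`, with `M` globally generated instead of point separating).
* `card_vanish_le`: for `L = M^3`, `M` ample, and `s` a nonzero section of `L`: at most `N^(2n) (n+1)! h⁰(L)` points
  of `A` killed by `N` are zeros of `s`, `n + 1 = dim A`.
* `main`: the node `K117.Ag.Node.TorsSec` (job 218).
-/

set_option autoImplicit false
universe u

open CategoryTheory CategoryTheory.Limits MonoidalCategory CartesianMonoidalCategory MonObj AlgebraicGeometry TopologicalSpace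

namespace K465.TorsSec

open Groth.Agent Groth.Agent.Fdesc.LocGen

/-! ### Sections at rational points -/

theorem notMem_iff {Ω : Type u} [Field Ω] {X : Scheme.{u}} (f : Spec (CommRingCat.of Ω) ⟶ X) {L : X.Modules}
    (hL : PicF.IsInvertible L) (s : Γ(L, ⊤)) :
    f (IsLocalRing.closedPoint Ω) ∉ CohB1.genLocus L (homOf s) ↔ pullTop f s = 0 := by
  have h2 : sec (homOf s) ⊤ = s := by rw [sec_homOf, res_refl]
  refine ⟨fun hx => ?_, fun h hx => ?_⟩
  · have h0 : CohB1.genLocus _ (pullHom f (homOf s)) = ⊥ := by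
      rw [Ega1.AmpFam.genLocus_pullHom f hL, eq_bot_iff]
      intro y hy
      rw [Subsingleton.elim y (IsLocalRing.closedPoint Ω)] at hy
      exact hx hy
    have h1 := CurvesC.DegZeroSec512.eq_zero_of_genLocus_eq_bot (isInvertible_pullback f hL) _ h0
    rw [pullHom, h2] at h1
    have h3 : sec (homOf (pullTop f s)) ⊤ = sec (0 : Coh.structureModule _ ⟶ _) ⊤ := by rw [h1]
    rw [sec_homOf, res_refl] at h3
    rw [h3]
    rfl
  · have h1 : pullHom f (homOf s) = 0 := by
      rw [pullHom, h2, h]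
      refine hom_ext_sec ?_
      simp only [sec_homOf, res_refl]
      rfl
    have h3 : IsLocalRing.closedPoint Ω ∈ CohB1.genLocus _ (pullHom f (homOf s)) := by
      rw [Ega1.AmpFam.genLocus_pullHom f hL]
      exact hx
    rw [h1, Ega2.FiniteSet.genLocus_zero] at h3
    exact h3

/-- A proper integral scheme over a field with ample structure module has one point. -/
theorem subsingleton_of_isAmple {k : Type u} [Field k] {Z : Scheme.{u}} [IsIntegral Z] (f : Z ⟶ Spec (CommRingCat.of k))
    [IsProper f] (h : CohB1.IsAmple (Coh.structureModule Z)) : Subsingleton Z := by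
  have h1 := Ega2.Weight.isQuasiAffine_of_isAmple_structureModule h
  have h2 : IsField Γ(Z, ⊤) := isField_of_universallyClosed k f
  let := h2.toField
  have h3 : Subsingleton (PrimeSpectrum Γ(Z, ⊤)) := inferInstance
  exact ⟨fun a b => Z.toSpecΓ.isOpenEmbedding.injective (h3.elim _ _)⟩

theorem genLocus_eq_bot {X : Scheme.{u}} [IsIntegral X] {L : X.Modules} (s : Coh.structureModule X ⟶ L)
    (h : genericPoint X ∉ CohB1.genLocus L s) : CohB1.genLocus L s = ⊥ := by
  by_contra hne
  apply h
  rw [← TopologicalSpace.Opens.not_nonempty_iff_eq_bot, not_not] at hne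
  obtain ⟨z, hz⟩ := hne
  exact (genericPoint_specializes z).mem_open (CohB1.genLocus L s).isOpen hz

theorem genLocus_smul_le {X : Scheme.{u}} {L : X.Modules} (hL : PicF.IsInvertible L) (a : Γ(X, ⊤)) (s : Γ(L, ⊤)) :
    CohB1.genLocus L (homOf (a • s)) ≤ CohB1.genLocus L (homOf s) := by
  intro x hx
  obtain ⟨U, e, hxU, he⟩ := (isInvertible_iff L).mp hL x
  obtain ⟨b, hb⟩ := he.exists_eq (sec (homOf s) U)
  have h1 := genLocus_inf_eq (homOf s) he hb
  have h2 : sec (homOf (a • s)) U = (ores (le_top : U ≤ ⊤) a * b) • e := by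
    rw [mul_smul, ← hb, sec_homOf, sec_homOf]
    exact res_smul _ _ _ _
  have h3 := genLocus_inf_eq (homOf (a • s)) he h2
  have h4 : x ∈ CohB1.genLocus L (homOf s) ⊓ U := by
    rw [h1]
    have h5 : x ∈ CohB1.genLocus L (homOf (a • s)) ⊓ U := ⟨hx, hxU⟩
    rw [h3, Scheme.basicOpen_mul] at h5
    exact h5.2
  exact h4.1

theorem pullTop_sub_smul {X Y : Scheme.{u}} (f : X ⟶ Y) {M : Y.Modules} (s t : Γ(M, ⊤)) (a : Γ(Y, ⊤)) :
    pullTop f (s - a • t) = pullTop f s - (f.appTop a : Γ(X, ⊤)) • pullTop f t := by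
  have h1 : pullTop f (s - a • t) = pullTop f s - pullTop f (a • t) :=
    map_sub (((Scheme.Modules.pullbackPushforwardAdjunction f).unit.app M).app ⊤).hom s (a • t)
  rw [h1]
  congr 1
  exact pullSec_smul f a t

/-- **Weak separation.** -/
theorem exists_sec {k : Type u} [Field k] {X : Scheme.{u}} (f : X ⟶ Spec (CommRingCat.of k)) [IsProper f]
    {M : X.Modules} (hM : CohB1.IsAmple M) (hgg : Curv2.IsGloballyGenerated M)
    (x : Spec (CommRingCat.of k) ⟶ X) (hx : x ≫ f = 𝟙 _) (y : X) (hy : ¬ IsClosed ({y} : Set X)) :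
    ∃ s : Coh.structureModule X ⟶ M, x (IsLocalRing.closedPoint k) ∉ CohB1.genLocus M s ∧
      y ∈ CohB1.genLocus M s := by
  by_contra hcon
  push Not at hcon
  obtain ⟨t, ht⟩ := Ega1.GlobGenPt.exists_mem_genLocus hM.1 hgg (x (IsLocalRing.closedPoint k))
  have htt : homOf (sec t ⊤) = t := hom_ext_sec (by rw [sec_homOf, res_refl])
  -- every section is a multiple of `t` at `x`
  have hmul : ∀ s : Γ(M, ⊤), ∃ a : Γ(X, ⊤), pullTop x (s - a • sec t ⊤) = 0 := by
    intro s
    have h1 : CohB1.genLocus _ (pullHom x t) = ⊤ := by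
      rw [Ega1.AmpFam.genLocus_pullHom x hM.1, eq_top_iff]
      intro z _
      rw [Subsingleton.elim z (IsLocalRing.closedPoint k)]
      exact ht
    have h2 : IsGen (pullTop x (sec t ⊤)) := by
      have := CurvesC.DegZeroSec512.isIso_of_genLocus_eq_top _ h1
      have h3 := (isIso_iff_isGen _).mp this
      rwa [pullHom, sec_homOf, res_refl] at h3
    obtain ⟨c, hc⟩ := h2.exists_eq (pullTop x s)
    refine ⟨f.appTop c, ?_⟩
    have h4 : (x.appTop (f.appTop c) : Γ(Spec (CommRingCat.of k), ⊤)) = c := by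
      have h5 : (x ≫ f).appTop c = c := by rw [hx]; rfl
      rwa [Scheme.Hom.comp_appTop] at h5
    rw [pullTop_sub_smul, h4, hc, sub_self]
  -- the closure of `y`
  obtain ⟨Z, i, hi, hZ, hrange⟩ := CohqB.DevGeom.exists_integral (closure {y}) isClosed_closure
    isIrreducible_singleton.closure
  have hiy : i (genericPoint Z) = y := by
    have h1 : IsGenericPoint (i (genericPoint Z)) (closure {y}) := by
      have h2 := (genericPoint_spec Z).image i.continuous
      rw [Set.image_univ, hrange, closure_closure] at h2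
      exact h2
    exact h1.eq rfl
  have hMZ : CohB1.IsAmple ((Scheme.Modules.pullback i).obj M) := Flat2H.FamOpen.isAmple_pullback_of_isAffineHom i hM
  have hzero : ∀ s : Γ(M, ⊤), ∃ a : Γ(X, ⊤), pullTop i s = i.appTop a • pullTop i (sec t ⊤) := by
    intro s
    obtain ⟨a, ha⟩ := hmul s
    have h1 := (notMem_iff x hM.1 _).mpr ha
    have h2 : y ∉ CohB1.genLocus M (homOf (s - a • sec t ⊤)) := hcon _ h1
    have h3 : CohB1.genLocus _ (pullHom i (homOf (s - a • sec t ⊤))) = ⊥ := by
      apply genLocus_eq_bot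
      rw [Ega1.AmpFam.genLocus_pullHom i hM.1]
      intro h
      apply h2
      rw [← hiy]
      exact h
    have h4 := CurvesC.DegZeroSec512.eq_zero_of_genLocus_eq_bot (isInvertible_pullback i hM.1) _ h3
    refine ⟨a, ?_⟩
    rw [pullHom, sec_homOf, res_refl] at h4
    have h5 : pullTop i (s - a • sec t ⊤) = 0 := by
      have h6 : sec (homOf (pullTop i (s - a • sec t ⊤))) ⊤ = sec (0 : Coh.structureModule _ ⟶ _) ⊤ := by rw [h4]
      rw [sec_homOf, res_refl] at h6
      rw [h6]
      rfl
    rw [pullTop_sub_smul, sub_eq_zero] at h5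
    exact h5
  have htop : CohB1.genLocus _ (pullHom i t) = ⊤ := by
    rw [eq_top_iff]
    intro z _
    obtain ⟨s, hs⟩ := Ega1.GlobGenPt.exists_mem_genLocus hM.1 hgg (i z)
    obtain ⟨a, ha⟩ := hzero (sec s ⊤)
    have h1 : z ∈ CohB1.genLocus _ (pullHom i s) := by
      rw [Ega1.AmpFam.genLocus_pullHom i hM.1]
      exact hs
    rw [pullHom, ha] at h1
    exact genLocus_smul_le hMZ.1 _ _ h1
  have hiso := CurvesC.DegZeroSec512.isIso_of_genLocus_eq_top _ htop
  have hO : CohB1.IsAmple (Coh.structureModule Z) := Ega2.Weight.isAmple_of_iso (asIso (pullHom i t)).symm hMZ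
  have hsub := subsingleton_of_isAmple (i ≫ f) hO
  apply hy
  have h1 : closure ({y} : Set X) ⊆ {y} := by
    rw [← hrange]
    rintro _ ⟨z, rfl⟩
    rw [hsub.elim z (genericPoint Z), hiy]
    rfl
  rw [← closure_subset_iff_isClosed]
  exact h1


/-! ### The count -/

open Groth.Agent.Grpsch.PicGrp Groth.Agent.Grpsch.Cube Groth.Agent.Fga.RegSec Groth.Agent.Fga.PicMon
open K518.Phi K518.AVNum K518.Points K688 K688.AbTors

variable {k : Type u} [Field k] [IsAlgClosed k] {A : Over (Spec (CommRingCat.of k))} [GrpObj A] [IsProper A.hom]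
  [GeometricallyIntegral A.hom]

/-- **Torsion points on an effective divisor.** -/
theorem card_le {g : ℕ} (hg : topologicalKrullDim A.left = (g + 1 : ℕ)) (n : ℕ) (hn : 1 ≤ n) {M T : A.left.Modules}
    (hMa : CohB1.IsAmple M) (hgg : Curv2.IsGloballyGenerated M) (hT : PicF.IsInvertible T)
    (t : Coh.structureModule A.left ⟶ T) (ht : CohB1.genLocus T t ≠ ⊥) (E : Finset A.left)
    (hE : ∀ e ∈ E, e ∉ CohB1.genLocus T t ∧ ∃ x : Pt A, x ^ n = 1 ∧ pt x = e) :
    (E.card : ℤ) ≤ n ^ (2 * g) * JA hg (Fin.cons (Additive.ofMul (mk T hT))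
      (fun _ : Fin g => Additive.ofMul (mk M hMa.1))) := by
  have hM := hMa.1
  have hint : IsIntegral A.left := K518.Basic.isIntegral_left A
  have nA : AlgebraicGeometry.IsNoetherian A.left := Fga.HypSec.isNoetherian k A.left
  have hfin : IsFinite (𝟙 A ^ n : A ⟶ A).left := by
    have h := (S1842.result k A (g + 1) hg n (by exact_mod_cast (by omega : n ≠ 0))).1
    rwa [zpow_natCast] at h
  set f : A.left ⟶ A.left := (𝟙 A ^ n : A ⟶ A).left with hf
  have hN : PicF.IsInvertible ((Scheme.Modules.pullback f).obj M) := isInvertible_pullback f hM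
  have hN' := isInvertible_dual hN
  have hT' := isInvertible_dual hT
  have hd : topologicalKrullDim A.left ≤ ((g + 1 : ℕ) : WithBot ℕ∞) := hg.le
  have hmul : ∀ {L : A.left.Modules}, PicF.IsInvertible L → mc (dual L) * mc L = 1 := fun {L} hL => by
    rw [mul_comm, ← mc_tensor, ← mc_one]
    exact mc_eq (@asIso _ _ _ _ (ev L) (isIso_ev hL))
  have hO : Coh.IsCoh (Coh.structureModule A.left) := CurvesC.UnitCoh.isCoh_unit A.left
  have hTO : Coh.IsCoh (CohB1.tensorMod T (Coh.structureModule A.left)) :=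
    Sga67.CohBasic.isCoh_of_iso (Ega2.Tens.swap _ _) (Fga.TwistCoh.isCoh_tensor hO hT)
  have hmono : Mono (mulS t (Coh.structureModule A.left)) :=
    mulS_mono t _ hO (Sga67.CohBasic.isCoh_kernel _ hO hTO.1).1 (K518.IntPos.ass_subset_genLocus hT t ht)
  -- the cut
  have hcut := CutCount.cut k (g + 1) hd hT hT' (hmul hT) t (Coh.structureModule A.left) hO hmono
    (fun _ : Fin g => dual ((Scheme.Modules.pullback f).obj M)) (fun _ => hN')
  have hJ : JA hg (Fin.cons (Additive.ofMul (mk T hT)) (fun _ : Fin g => Additive.ofMul (pl (𝟙 A ^ n) (mk M hM)))) =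
      FGA.intNum k A.left (g + 1) (Fin.cons (dual T) (fun _ : Fin g => dual ((Scheme.Modules.pullback f).obj M)) :
        Fin (g + 1) → A.left.Modules) (Coh.structureModule A.left) := by
    rw [K518.IntMul.J_apply]
    have hinv : ∀ i, PicF.IsInvertible ((Fin.cons (dual T) (fun _ : Fin g => dual ((Scheme.Modules.pullback f).obj M)) :
        Fin (g + 1) → A.left.Modules) i) := by
      intro i
      cases i using Fin.cases with
      | zero => exact hT'
      | succ i => exact hN'
    rw [Pic13.H970.IntForm.intNum_eq k A.left (g + 1) _ _ hinv]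
    congr 1
    funext i
    cases i using Fin.cases with
    | zero => rfl
    | succ i => rfl
  rw [← J_pull hg n, hJ, hcut]
  -- support of the divisor
  have hsupp : CohB1.support (CohB1.tensorMod (dual T) (cokernel (mulS t (Coh.structureModule A.left)))) =
      (CohB1.genLocus T t : Set A.left)ᶜ := by
    rw [CutCount.support_cut hT hT' (hmul hT) t _ hO, K518.IntMul.support_unit, Set.compl_eq_univ_sdiff]
  have hgen : genericPoint A.left ∈ CohB1.genLocus T t := by
    rw [Ne, ← Opens.not_nonempty_iff_eq_bot, not_not] at ht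
    obtain ⟨z, hz⟩ := ht
    exact (genericPoint_specializes z).mem_open (CohB1.genLocus T t).isOpen hz
  have hcl : closure ({genericPoint A.left} : Set A.left) = Set.univ := (genericPoint_spec A.left).def
  have hdim : topologicalKrullDim
      (CohB1.support (CohB1.tensorMod (dual T) (cokernel (mulS t (Coh.structureModule A.left))))) ≤ (g : ℕ) := by
    rw [hsupp]
    have hlt := Fga.DimLt.topologicalKrullDim_lt (d := g + 1) (A := (Set.univ : Set A.left))
      (IrreducibleSpace.isIrreducible_univ A.left) (CohB1.genLocus T t).isOpen.isClosed_compl (Set.subset_univ _)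
      (fun h => by
        have h5 : genericPoint A.left ∈ (CohB1.genLocus T t : Set A.left)ᶜ := by
          rw [h]; trivial
        exact h5 hgen) (by
        rw [(Homeomorph.Set.univ A.left).isHomeomorph.topologicalKrullDim_eq, hg]
        exact_mod_cast Nat.lt_succ_self _)
    exact Fga.DimCut.le_of_not_succ_le (not_le.mpr hlt)
  have hEcl : ∀ e ∈ E, IsClosed ({e} : Set A.left) := by
    intro e he
    obtain ⟨-, x, -, rfl⟩ := hE e he
    exact isClosed_pt x
  have hmain := CutCount.card_le_intNum k (g + 1) hd hN hN' (hmul hN) E hEcl ?_ g _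
    (CutCount.isCoh_cut hT hT' t _ hO) hdim
  · refine le_trans ?_ hmain
    have hsub : E ⊆ DevCount.ptsOn E g
        (CohB1.support (CohB1.tensorMod (dual T) (cokernel (mulS t (Coh.structureModule A.left))))) := by
      intro e he
      rw [DevCount.mem_ptsOn]
      refine ⟨he, ?_⟩
      obtain ⟨U, hxU, e', a, -, -, ha, -⟩ := exists_gen_of_not_mem t hT (hE e he).1
      obtain ⟨x, hx, hxd, hxe⟩ := CutCount.exists_component k (genericPoint A.left) e g (by
        rw [hcl, (Homeomorph.Set.univ A.left).isHomeomorph.topologicalKrullDim_eq, hg]) (CohB1.genLocus T t) hgen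
        (hEcl e he) (genericPoint_specializes e) ⟨U, hxU, a, ha⟩ (hE e he).1
      refine ⟨x, ?_, hxd, hxe⟩
      rw [hsupp]
      exact hx.2
    exact_mod_cast Finset.card_le_card hsub
  · intro y hy
    obtain ⟨s, hs1, hs2⟩ := exists_sec A.hom hMa hgg (1 : Pt A).left (Over.w (1 : Pt A)) (f y)
      (not_isClosed_map f y hy)
    refine ⟨pullHom f s, ?_, fun e he => ?_⟩
    · rw [Ega1.AmpFam.genLocus_pullHom f hM s]
      exact hs2
    · rw [Ega1.AmpFam.genLocus_pullHom f hM s]
      obtain ⟨-, x, hx, rfl⟩ := hE e he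
      intro h
      apply hs1
      have h2 : f (pt x) = pt (1 : Pt A) := by
        rw [← hx, hf, ← pt_comp, MonObj.comp_pow, Category.comp_id]
      have h3 : pt (1 : Pt A) ∈ CohB1.genLocus M s := by
        rw [← h2]
        exact h
      exact h3

omit [IsAlgClosed k] [GrpObj A] [GeometricallyIntegral A.hom] in
theorem JA_pow {g : ℕ} (hg : topologicalKrullDim A.left = (g + 1 : ℕ)) (a b : ℕ) (x : Pic A.left) :
    JA hg (Fin.cons (Additive.ofMul (x ^ a)) (fun _ : Fin g => Additive.ofMul (x ^ b))) =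
      a * b ^ g * JA hg (Fin.cons (Additive.ofMul x) (fun _ : Fin g => Additive.ofMul x)) := by
  have h3 : (Fin.cons (Additive.ofMul (x ^ a)) (fun _ : Fin g => Additive.ofMul (x ^ b)) :
        Fin (g + 1) → Additive (Pic A.left)) =
        fun i => (Fin.cons (a : ℤ) (fun _ : Fin g => (b : ℤ)) : Fin (g + 1) → ℤ) i •
          (Fin.cons (Additive.ofMul x) (fun _ : Fin g => Additive.ofMul x) :
            Fin (g + 1) → Additive (Pic A.left)) i := by
    funext i
    cases i using Fin.cases with
    | zero =>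
      simp only [Fin.cons_zero, ofMul_pow, natCast_zsmul]
    | succ i =>
      simp only [Fin.cons_succ, ofMul_pow, natCast_zsmul]
  rw [h3, MultilinearMap.map_smul_univ, Fin.prod_univ_succ]
  simp only [Fin.cons_zero, Fin.cons_succ, Finset.prod_const, Finset.card_univ, Fintype.card_fin, smul_eq_mul]

omit [IsAlgClosed k] in
theorem JA_self {n : ℕ} (hg : topologicalKrullDim A.left = (n + 1 : ℕ)) {L : A.left.Modules} (hL : CohB1.IsAmple L) :
    JA hg (Fin.cons (Additive.ofMul (mk L hL.1)) (fun _ : Fin n => Additive.ofMul (mk L hL.1))) =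
      ((n + 1).factorial : ℤ) *
        (@Module.finrank k (Coh.HH A.left L 0) _ _ (@Coh.moduleOver k _ A.left ⟨A.hom⟩ L 0) : ℤ) := by
  let _ : A.left.Over (Spec (CommRingCat.of k)) := ⟨A.hom⟩
  have i5 : IsIntegral A.left := GeometricallyIntegral.isIntegral_of_subsingleton A.hom
  have i6 : IsProper (A.left ↘ Spec (CommRingCat.of k)) := inferInstanceAs (IsProper A.hom)
  obtain ⟨L', hL', ⟨e'⟩⟩ := exists_inverse hL.1
  have h2 := S7858.result k A (n + 1) hg L L' hL.1 ⟨e'⟩
  have hmk : mk L' hL' = (mk L hL.1)⁻¹ := by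
    rw [eq_inv_iff_mul_eq_one, mul_comm, mk_mul_mk, mk_eq_one_iff]
    exact ⟨e'⟩
  have h3 : FGA.intNum k A.left (n + 1) (fun _ : Fin (n + 1) => L') (Coh.structureModule A.left) =
      JA hg (Fin.cons (Additive.ofMul (mk L hL.1)) (fun _ : Fin n => Additive.ofMul (mk L hL.1))) := by
    rw [Pic13.H970.IntForm.intNum_eq k A.left (n + 1) _ _ (fun _ => hL'), K518.IntMul.J_apply]
    congr 1
    funext i
    rw [hmk]
    cases i using Fin.cases with
    | zero => rfl
    | succ i => rfl
  rw [← h3, ← h2]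
  congr 1
  exact Pic13.H116.Num.chi_eq_hz k fun i hi => K511.AmpleVan.vanish A L hL i hi

/-- The square of an ample module is globally generated. -/
theorem isGloballyGenerated_sq {M : A.left.Modules} (hM : CohB1.IsAmple M) :
    Curv2.IsGloballyGenerated (CohB1.tensorMod M M) := by
  have i1 : Smooth A.hom := K449.Basic.smooth A
  have i2 : GeometricallyConnected A.hom := by
    refine ⟨fun K _ y Y fst snd hpb => ?_⟩
    have := GeometricallyIrreducible.geometrically_irreducibleSpace (f := A.hom) y fst snd hpb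
    infer_instance
  have i5 : IsIntegral A.left := GeometricallyIntegral.isIntegral_of_subsingleton A.hom
  obtain ⟨t', ht'⟩ := @exists_ne _ (S14124.result k A M hM).2 (0 : Coh.HH A.left M 0)
  let t : Γ(M, ⊤) := Groth.Agent.CurvesB.HZero.equivAdd M t'
  have ht : t ≠ 0 := fun h => ht' ((Groth.Agent.CurvesB.HZero.equivAdd M).injective (h.trans (map_zero _).symm))
  refine K449.AmpAb.isGloballyGenerated hM.1 (homOf t) ?_
  by_contra hne
  have h0 : CohB1.genLocus M (homOf t) = ⊥ := (TopologicalSpace.Opens.not_nonempty_iff_eq_bot _).mp hne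
  have h1 := CurvesC.DegZeroSec512.eq_zero_of_genLocus_eq_bot hM.1 _ h0
  apply ht
  have h3 : sec (homOf t) ⊤ = sec (0 : Coh.structureModule _ ⟶ _) ⊤ := by rw [h1]
  rw [sec_homOf, res_refl] at h3
  rw [h3]
  rfl

omit [GrpObj A] [IsProper A.hom] [GeometricallyIntegral A.hom] in
/-- **Section form of the count.** -/
theorem card_vanish_le {A : Over (Spec (CommRingCat.of k))} [GrpObj A] {n : ℕ} (hA : AgPol.IsAbSch A (n + 1))
    {M L : A.left.Modules} (hM : CohB1.IsAmple M) (hL : Nonempty (L ≅ CohB1.tensorPow M 3))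
    (s : Γ(L, ⊤)) (hs : s ≠ 0) (N : ℕ) (hN : 1 ≤ N) :
    Nat.card {x : 𝟙_ (Over (Spec (CommRingCat.of k))) ⟶ A // x ^ N = 1 ∧ pullTop x.left s = 0} ≤
      N ^ (2 * n) * ((n + 1).factorial *
        @Module.finrank k (Coh.HH A.left L 0) _ _ (@Coh.moduleOver k _ A.left ⟨A.hom⟩ L 0)) := by
  classical
  have i1 := hA.smooth
  have i2 := hA.proper
  have i3 := hA.geomConnected
  have i4 : GeometricallyIntegral A.hom := K512.AV.geometricallyIntegral _
  have i5 : IsIntegral A.left := GeometricallyIntegral.isIntegral_of_subsingleton A.hom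
  have hg : topologicalKrullDim A.left = (n + 1 : ℕ) := K688.AbTorsFin.dim_eq A _ hA.fibreDim
  obtain ⟨eL⟩ := hL
  have hM3 : CohB1.IsAmple (CohB1.tensorPow M 3) := Divis.NormAmple.isAmple_tensorPow hM (by norm_num)
  have hLa : CohB1.IsAmple L := Ega2.Weight.isAmple_of_iso eL.symm hM3
  have hM2 : CohB1.IsAmple (CohB1.tensorMod M M) :=
    Groth.Agent.Ega2.Weight.isAmple_tensorMod hM hM.1 fun x ↦ by
      obtain ⟨m, s, hs, -⟩ := hM.2.2 x
      exact ⟨m, s, hs⟩
  by_cases hfin : Finite {x : 𝟙_ (Over (Spec (CommRingCat.of k))) ⟶ A // x ^ N = 1 ∧ pullTop x.left s = 0}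
  swap
  · rw [not_finite_iff_infinite] at hfin
    rw [Nat.card_eq_zero_of_infinite]
    positivity
  let _ := Fintype.ofFinite {x : 𝟙_ (Over (Spec (CommRingCat.of k))) ⟶ A // x ^ N = 1 ∧ pullTop x.left s = 0}
  let E : Finset A.left := Finset.univ.image
    fun x : {x : 𝟙_ (Over (Spec (CommRingCat.of k))) ⟶ A // x ^ N = 1 ∧ pullTop x.left s = 0} => pt x.1
  have hEcard : E.card = Nat.card {x : 𝟙_ (Over (Spec (CommRingCat.of k))) ⟶ A //
      x ^ N = 1 ∧ pullTop x.left s = 0} := by
    rw [Finset.card_image_of_injective, Finset.card_univ, Nat.card_eq_fintype_card]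
    intro x y hxy
    exact Subtype.ext (pt_ext hxy)
  have h0 : CohB1.genLocus L (homOf s) ≠ ⊥ := by
    intro h
    have h1 := CurvesC.DegZeroSec512.eq_zero_of_genLocus_eq_bot hLa.1 _ h
    apply hs
    have h3 : sec (homOf s) ⊤ = sec (0 : Coh.structureModule _ ⟶ _) ⊤ := by rw [h1]
    rw [sec_homOf, res_refl] at h3
    rw [h3]
    rfl
  have key := card_le hg N hN hM2 (isGloballyGenerated_sq hM) hLa.1 (homOf s) h0 E (by
    intro e he
    obtain ⟨x, -, rfl⟩ := Finset.mem_image.1 he
    exact ⟨(notMem_iff x.1.left hLa.1 s).mpr x.2.2, x.1, x.2.1, rfl⟩)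
  have hc3 : mk L hLa.1 = mk M hM.1 ^ 3 := by
    rw [← mk_tensorPow hM.1 3]
    exact (mk_eq_iff _ _).mpr ⟨eL⟩
  have hc2 : mk _ hM2.1 = mk M hM.1 ^ 2 := by
    rw [sq, mk_mul_mk]
  have hJL := JA_self hg hLa
  have hJM := JA_self hg hM
  rw [hc3, JA_pow hg 3 3] at hJL
  rw [hc3, hc2, JA_pow hg 3 2, hEcard] at key
  have hpos : 0 ≤ JA hg (Fin.cons (Additive.ofMul (mk M hM.1)) (fun _ : Fin n => Additive.ofMul (mk M hM.1))) := by
    rw [hJM]
    positivity
  have hle : ((3 : ℕ) : ℤ) * ((2 : ℕ) : ℤ) ^ n *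
      JA hg (Fin.cons (Additive.ofMul (mk M hM.1)) (fun _ : Fin n => Additive.ofMul (mk M hM.1))) ≤
      ((n + 1).factorial : ℤ) *
        (@Module.finrank k (Coh.HH A.left L 0) _ _ (@Coh.moduleOver k _ A.left ⟨A.hom⟩ L 0) : ℤ) := by
    rw [← hJL]
    refine mul_le_mul_of_nonneg_right ?_ hpos
    refine mul_le_mul_of_nonneg_left ?_ (by positivity)
    exact pow_le_pow_left₀ (by norm_num) (by norm_num) n
  have hfinal := key.trans (mul_le_mul_of_nonneg_left hle (by positivity))
  exact_mod_cast hfinal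

/-! ### The node -/

omit [GrpObj A] [IsProper A.hom] [GeometricallyIntegral A.hom] in
theorem main : K117.Ag.Node.TorsSec.{u} := by
  intro Ω _ _ A _ _ g N hg hA hN M L hM hL hN2 s hs
  obtain ⟨n, rfl⟩ : ∃ n, g = n + 1 := ⟨g - 1, by omega⟩
  by_contra hcon
  push Not at hcon
  have i1 := hA.smooth
  have i2 := hA.proper
  have i3 := hA.geomConnected
  have i4 : GeometricallyIntegral A.hom := K512.AV.geometricallyIntegral _
  have hN1 : 1 ≤ N := by
    rcases Nat.eq_zero_or_pos N with h | h
    · rw [h] at hN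
      exact absurd Nat.cast_zero hN
    · exact h
  have hdim : topologicalKrullDim A.left = (n + 1 : ℕ) := K688.AbTorsFin.dim_eq A _ hA.fibreDim
  have h1 := card_vanish_le hA hM hL s hs N hN1
  have h2 : Nat.card {x : 𝟙_ (Over (Spec (CommRingCat.of Ω))) ⟶ A // x ^ N = 1 ∧ pullTop x.left s = 0} =
      N ^ (2 * (n + 1)) := by
    rw [← Etcore.AbTors.card_torsion A (n + 1) hdim N hN]
    refine Nat.card_congr (Equiv.subtypeEquivRight fun x => ⟨fun h => h.1, fun h => ⟨h, hcon x h⟩⟩)
  rw [h2] at h1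
  generalize @Module.finrank Ω (Coh.HH A.left L 0) _ _ (@Coh.moduleOver Ω _ A.left ⟨A.hom⟩ L 0) = h at h1 hN2
  have h3 : N ^ (2 * (n + 1)) = N ^ (2 * n) * N ^ 2 := by ring
  rw [h3] at h1
  have h4 := Nat.le_of_mul_le_mul_left h1 (by positivity)
  have h5 : h ≤ h ^ 2 := Nat.le_self_pow (by norm_num) h
  have h6 := Nat.mul_le_mul_right (n + 1).factorial h5
  rw [mul_comm] at h4
  omega

end K465.TorsSec
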